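import Groth.Prelude.Def_Algz
import Groth.Agent.CycLib.SchemeDim
import Groth.Agent.CycLib.FibreDim
import Mathlib.Order.KrullDimension

/-!
The distance function `Algz.deltaZ` along a morphism of finite type: images of systems.
-/

set_option linter.style.haveILetI false

namespace Groth.Agent.Algz48.FT

open AlgebraicGeometry CategoryTheory Groth.Agent.CycLib Groth.Agent.VarDim

universe u

/-- codimension of irreducible closed subsets as a height in an affine coordinate ring -/
theorem codimPt_eq_height {X : Scheme.{u}} {U : X.Opens} (hU : IsAffineOpen U) {w v : X} (h : w ⤳ v)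
    (hv : v ∈ U) (hw : w ∈ U)
    [hqb : ((hU.primeIdealOf ⟨v, hv⟩).asIdeal.map
      (Ideal.Quotient.mk (hU.primeIdealOf ⟨w, hw⟩).asIdeal)).IsPrime] :
    Algz.codimPt w v h = ((hU.primeIdealOf ⟨v, hv⟩).asIdeal.map
      (Ideal.Quotient.mk (hU.primeIdealOf ⟨w, hw⟩).asIdeal)).height := by
  set q := hU.primeIdealOf ⟨w, hw⟩ with hq
  set q' := hU.primeIdealOf ⟨v, hv⟩ with hq'
  have hqw : hU.fromSpec q = w := hU.fromSpec_primeIdealOf _
  have hqv : hU.fromSpec q' = v := hU.fromSpec_primeIdealOf _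
  have hle : q.asIdeal ≤ q'.asIdeal := (CycLib.primeIdealOf_le_iff hU q q').2 (by
    rwa [hqw, hqv])
  let π := Ideal.Quotient.mk q.asIdeal
  let qb : PrimeSpectrum (Γ(X, U) ⧸ q.asIdeal) := ⟨q'.asIdeal.map π, hqb⟩
  rw [PrimeSpectrum.height_eq_orderHeight qb]
  let g : PrimeSpectrum (Γ(X, U) ⧸ q.asIdeal) → X := fun a => hU.fromSpec (PrimeSpectrum.comap π a)
  have hg : ∀ a b, g a ⤳ g b ↔ a ≤ b := fun a b =>
    (CycLib.primeIdealOf_le_iff hU _ _).symm.trans
      (Ideal.comap_le_comap_iff_of_surjective π Ideal.Quotient.mk_surjective a.asIdeal b.asIdeal)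
  have hker : ∀ a : PrimeSpectrum (Γ(X, U) ⧸ q.asIdeal), q.asIdeal ≤ (PrimeSpectrum.comap π a).asIdeal :=
    fun a y hy => show π y ∈ a.asIdeal by
      rw [Ideal.Quotient.eq_zero_iff_mem.2 hy]; exact zero_mem _
  have hgw : ∀ a, w ⤳ g a := fun a => by
    have := (CycLib.primeIdealOf_le_iff hU q (PrimeSpectrum.comap π a)).1 (hker a)
    rwa [hqw] at this
  have hgq : g qb = v := by
    have e : PrimeSpectrum.comap π qb = q' := PrimeSpectrum.ext (by
      show (q'.asIdeal.map π).comap π = q'.asIdeal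
      rw [Ideal.comap_map_of_surjective _ Ideal.Quotient.mk_surjective, ← RingHom.ker_eq_comap_bot,
        Ideal.mk_ker, sup_eq_left.2 hle])
    show hU.fromSpec (PrimeSpectrum.comap π qb) = v
    rw [e, hqv]
  rw [Algz.codimPt, ← WithBot.coe_inj, Order.height_eq_krullDim_Iic, Order.height_eq_krullDim_Iic]
  let φ : (Set.Iic qb)ᵒᵈ → Set.Iic (⟨Specialization.toEquiv w, Specialization.toEquiv_le_toEquiv.mpr h⟩ :
      Set.Ici (Specialization.toEquiv v)) := fun a =>
    ⟨⟨Specialization.toEquiv (g (OrderDual.ofDual a).1),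
      Specialization.toEquiv_le_toEquiv.mpr (hgq ▸ (hg _ _).2 (OrderDual.ofDual a).2)⟩,
      Specialization.toEquiv_le_toEquiv.mpr (hgw _)⟩
  have hφ : ∀ a b, φ a ≤ φ b ↔ a ≤ b := fun a b =>
    (Specialization.toEquiv_le_toEquiv.trans (hg _ _)).trans Iff.rfl
  have hsurj : Function.Surjective φ := by
    rintro ⟨⟨z, hz1⟩, hz2⟩
    have hzv : Specialization.ofEquiv z ⤳ v := hz1
    have hwz : w ⤳ Specialization.ofEquiv z := hz2
    have hzU : Specialization.ofEquiv z ∈ U := hzv.mem_open U.2 hv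
    set Q := hU.primeIdealOf ⟨_, hzU⟩ with hQ
    have hQz : hU.fromSpec Q = Specialization.ofEquiv z := hU.fromSpec_primeIdealOf _
    have hqQ : q.asIdeal ≤ Q.asIdeal := (CycLib.primeIdealOf_le_iff hU q Q).2 (by
      rwa [hqw, hQz])
    have hQq : Q.asIdeal ≤ q'.asIdeal := (CycLib.primeIdealOf_le_iff hU Q q').2 (by
      rwa [hqv, hQz])
    let a : PrimeSpectrum (Γ(X, U) ⧸ q.asIdeal) := ⟨Q.asIdeal.map π,
      Ideal.map_isPrime_of_surjective Ideal.Quotient.mk_surjective (by rw [Ideal.mk_ker]; exact hqQ)⟩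
    have ha : g a = Specialization.ofEquiv z := by
      have e : PrimeSpectrum.comap π a = Q := PrimeSpectrum.ext (by
        show (Q.asIdeal.map π).comap π = Q.asIdeal
        rw [Ideal.comap_map_of_surjective _ Ideal.Quotient.mk_surjective, ← RingHom.ker_eq_comap_bot,
          Ideal.mk_ker, sup_eq_left.2 hqQ])
      show hU.fromSpec (PrimeSpectrum.comap π a) = _
      rw [e, hQz]
    refine ⟨OrderDual.toDual ⟨a, Ideal.map_mono hQq⟩, Subtype.ext (Subtype.ext ?_)⟩
    show Specialization.toEquiv (g a) = z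
    rw [ha]
    rfl
  exact ((Order.krullDim_eq_of_orderIso
    (RelIso.ofSurjective (OrderEmbedding.ofMapLEIff φ hφ) hsurj)).symm.trans Order.krullDim_orderDual)

variable {X Y : Scheme.{u}} (f : X ⟶ Y) [LocallyOfFiniteType f]

/-- residue field transcendence degree -/
noncomputable def td (x : X) : Cardinal.{u} :=
  @Algebra.trdeg (Y.residueField (f x)) (X.residueField x) _ _ (f.residueFieldMap x).hom.toAlgebra

theorem exists_codimPt [IsLocallyNoetherian Y]
    (hcat : ∀ y, CAlg.IsUniversallyCatenary (Y.presheaf.stalk y)) {w v : X} (h : w ⤳ v) :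
    ∃ C' C tw tv : ℕ, Algz.codimPt w v h = C' ∧
      Algz.codimPt (f w) (f v) (h.map f.continuous) = C ∧ td f w = tw ∧ td f v = tv ∧
      C' + tv = C + tw := by
  obtain ⟨V, hV, hxV, -⟩ := exists_isAffineOpen_mem_and_subset (x := f v) (U := (⊤ : Y.Opens)) trivial
  obtain ⟨U, hU, hxU, hUV⟩ := exists_isAffineOpen_mem_and_subset (x := v) (U := f ⁻¹ᵁ V) hxV
  have hxU' : w ∈ U := h.mem_open U.2 hxU
  haveI : IsNoetherianRing Γ(Y, V) := IsLocallyNoetherian.component_noetherian ⟨V, hV⟩
  letI := (f.appLE V U hUV).hom.toAlgebra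
  haveI : Algebra.FiniteType Γ(Y, V) Γ(X, U) := f.finiteType_appLE hV hU hUV
  let q := hU.primeIdealOf ⟨w, hxU'⟩
  let q' := hU.primeIdealOf ⟨v, hxU⟩
  let p := hV.primeIdealOf ⟨f w, hUV hxU'⟩
  let p' := hV.primeIdealOf ⟨f v, hUV hxU⟩
  haveI : q.asIdeal.LiesOver p.asIdeal := liesOver_primeIdealOf f hV hU hUV hxU'
  haveI : q'.asIdeal.LiesOver p'.asIdeal := liesOver_primeIdealOf f hV hU hUV hxU
  have hqq : q.asIdeal ≤ q'.asIdeal := (CycLib.primeIdealOf_le_iff hU q q').2 (by
    rwa [hU.fromSpec_primeIdealOf, hU.fromSpec_primeIdealOf])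
  have hpp : p.asIdeal ≤ p'.asIdeal := by
    rw [Ideal.over_def q.asIdeal p.asIdeal, Ideal.over_def q'.asIdeal p'.asIdeal]
    exact Ideal.comap_mono hqq
  let π := Ideal.Quotient.mk p.asIdeal
  let ρ := Ideal.Quotient.mk q.asIdeal
  let pb : Ideal (Γ(Y, V) ⧸ p.asIdeal) := p'.asIdeal.map π
  let qb : Ideal (Γ(X, U) ⧸ q.asIdeal) := q'.asIdeal.map ρ
  haveI hpb : pb.IsPrime := Ideal.map_isPrime_of_surjective Ideal.Quotient.mk_surjective
    (by rw [Ideal.mk_ker]; exact hpp)
  haveI hqb : qb.IsPrime := Ideal.map_isPrime_of_surjective Ideal.Quotient.mk_surjective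
    (by rw [Ideal.mk_ker]; exact hqq)
  have hpc : pb.comap π = p'.asIdeal := by
    rw [Ideal.comap_map_of_surjective _ Ideal.Quotient.mk_surjective, ← RingHom.ker_eq_comap_bot,
      Ideal.mk_ker, sup_eq_left.2 hpp]
  have hqc : qb.comap ρ = q'.asIdeal := by
    rw [Ideal.comap_map_of_surjective _ Ideal.Quotient.mk_surjective, ← RingHom.ker_eq_comap_bot,
      Ideal.mk_ker, sup_eq_left.2 hqq]
  haveI : qb.LiesOver pb := ⟨by
    apply Ideal.comap_injective_of_surjective π Ideal.Quotient.mk_surjective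
    rw [hpc, Ideal.over_def q'.asIdeal p'.asIdeal, Ideal.under_def, Ideal.under_def, ← hqc,
      Ideal.comap_comap, Ideal.comap_comap]
    rfl⟩
  haveI : Algebra.FiniteType (Γ(Y, V) ⧸ p.asIdeal) (Γ(X, U) ⧸ q.asIdeal) :=
    Algebra.FiniteType.of_restrictScalars_finiteType Γ(Y, V) _ _
  have hpcat : PolyCatAt Γ(Y, V) p'.asIdeal := by
    letI := TopCat.Presheaf.algebra_section_stalk Y.presheaf (⟨f v, hUV hxU⟩ : V)
    haveI := hV.isLocalization_stalk ⟨f v, hUV hxU⟩
    exact polyCatAt_of_isLocalization _ (Y.presheaf.stalk (f v)) (hcat _)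
  obtain ⟨hq, hp, t, T, hhq, hhp, ht, hT, -, heq⟩ := height_add_trdeg pb qb
  have hE := heq (polyCatAt_of_surjective π Ideal.Quotient.mk_surjective pb (by rwa [hpc]))
  have c : Algebra.trdeg ((Γ(Y, V) ⧸ p.asIdeal) ⧸ pb) ((Γ(X, U) ⧸ q.asIdeal) ⧸ qb) =
      Algebra.trdeg (Γ(Y, V) ⧸ p'.asIdeal) (Γ(X, U) ⧸ q'.asIdeal) :=
    trdeg_congr (DoubleQuot.quotQuotEquivQuotOfLE hpp) (DoubleQuot.quotQuotEquivQuotOfLE hqq)
      (fun x => by
        obtain ⟨y, rfl⟩ := Ideal.Quotient.mk_surjective x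
        obtain ⟨a, rfl⟩ := Ideal.Quotient.mk_surjective y
        rfl)
  rw [c] at ht
  exact ⟨hq, hp, T, t,
    (@codimPt_eq_height X U hU w v h hxU hxU' hqb).trans hhq,
    (@codimPt_eq_height Y V hV (f w) (f v) (h.map f.continuous) (hUV hxU) (hUV hxU') hpb).trans hhp,
    ((trdeg_residueField_eq f hV hU hUV hxU').symm.trans hT),
    ((trdeg_residueField_eq f hV hU hUV hxU).symm.trans ht), hE⟩

theorem td_le (e : ℕ) (hfib : ∀ y : Y, topologicalKrullDim ↑(f.fiber y) ≤ (e : WithBot ℕ∞))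
    (x : X) (t : ℕ) (ht : td f x = t) : t ≤ e := by
  have key : ∀ (y : Y) (z : f.fiber y) (x : X), f.fiberι y z = x → td f x = t → t ≤ e := by
    rintro y z x rfl ht
    letI := f.fiberOverSpecResidueField y
    haveI : LocallyOfFiniteType ((f.fiber y) ↘ Spec (CommRingCat.of (Y.residueField y))) :=
      locallyOfFiniteType_fiberToSpecResidueField f y
    have h1 := trdeg_fibre f y z
    unfold td at ht
    rw [ht, Nat.cast_inj] at h1
    have h2 : topologicalKrullDim (closure ({z} : Set (f.fiber y))) ≤ (e : WithBot ℕ∞) :=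
      (isClosed_closure.isClosedEmbedding_subtypeVal.isInducing.topologicalKrullDim_le).trans (hfib y)
    rw [topologicalKrullDim_closure, height_eq_dimPt (Y.residueField y)] at h2
    have h3 : dimPt (Y.residueField y) (f.fiber y) z ≤ e := by exact_mod_cast h2
    omega
  exact key (f x) (f.asFiber x) x (f.fiberι_asFiber x) ht

end Groth.Agent.Algz48.FT

namespace Groth.Agent.Algz48.FT

universe u

theorem sum_shift {k : ℕ} (c c' tv tw : Fin (k + 1) → ℕ) (b b' : Fin k → ℕ)
    (hc : ∀ j, c' j + tv j = c j + tw j)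
    (hb : ∀ j : Fin k, b' j + tv j.succ = b j + tw j.castSucc) (i : Fin (k + 1)) :
    (∑ j ∈ Finset.univ.filter (fun j : Fin (k + 1) => i ≤ j), c j) +
      (∑ j ∈ Finset.univ.filter (fun j : Fin k => i.val ≤ j.val), b' j) + tw (Fin.last k) =
    (∑ j ∈ Finset.univ.filter (fun j : Fin (k + 1) => i ≤ j), c' j) +
      (∑ j ∈ Finset.univ.filter (fun j : Fin k => i.val ≤ j.val), b j) + tv i := by
  induction i using Fin.reverseInduction with
  | last =>
    rw [show Finset.univ.filter (fun j : Fin (k + 1) => Fin.last k ≤ j) = {Fin.last k} by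
      ext j; simp [Fin.last_le_iff],
      show Finset.univ.filter (fun j : Fin k => (Fin.last k).val ≤ j.val) = ∅ by ext j; simp]
    simp only [Finset.sum_singleton, Finset.sum_empty]
    have := hc (Fin.last k)
    omega
  | cast i ih =>
    rw [show Finset.univ.filter (fun j : Fin (k + 1) => i.castSucc ≤ j) =
        insert i.castSucc (Finset.univ.filter (fun j : Fin (k + 1) => i.succ ≤ j)) by
      ext j; simp [Fin.le_def, Fin.ext_iff]; omega,
      show Finset.univ.filter (fun j : Fin k => i.castSucc.val ≤ j.val) =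
        insert i (Finset.univ.filter (fun j : Fin k => i.succ.val ≤ j.val)) by
      ext j; simp [Fin.ext_iff]; omega,
      Finset.sum_insert (by simp [Fin.le_def]), Finset.sum_insert (by simp),
      Finset.sum_insert (by simp [Fin.le_def]), Finset.sum_insert (by simp)]
    have := hc i.castSucc
    have := hb i
    omega

end Groth.Agent.Algz48.FT

namespace Groth.Agent.Algz48.FT

open AlgebraicGeometry CategoryTheory

universe u

variable {X Y : Scheme.{u}} (f : X ⟶ Y) [LocallyOfFiniteType f]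

theorem deltaZ_add_le [IsLocallyNoetherian Y]
    (hcat : ∀ y, CAlg.IsUniversallyCatenary (Y.presheaf.stalk y))
    (e : ℕ) (hfib : ∀ y : Y, topologicalKrullDim ↑(f.fiber y) ≤ (e : WithBot ℕ∞))
    (Z : Set Y) (x : X) (t : ℕ) (ht : td f x = t) :
    Algz.deltaZ Z (f x) + t ≤ Algz.deltaZ (f ⁻¹' Z) x + e := by
  simp only [Algz.deltaZ, ENat.iInf_add]
  refine le_iInf fun k => le_iInf fun S => ?_
  let T : Algz.DSystem Z (f x) k :=
    { v := fun i => f (S.v i), w := fun i => f (S.w i)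
      spec := fun i => (S.spec i).map f.continuous
      spec_succ := fun i => (S.spec_succ i).map f.continuous
      start_mem := S.start_mem
      last_eq := congrArg (fun z => f z) S.last_eq }
  simp only [← ENat.iInf_add]
  refine le_trans (add_le_add_left ((iInf_le (fun k => ⨅ S : Algz.DSystem Z (f x) k, S.delta) k).trans
    (iInf_le _ T)) _) ?_
  choose c' c tw tv h1 h2 h3 h4 h5 using fun i : Fin (k + 1) => exists_codimPt f hcat (S.spec i)
  choose b' b sw sv g1 g2 g3 g4 g5 using fun i : Fin k => exists_codimPt f hcat (S.spec_succ i)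
  have hb : ∀ j : Fin k, b' j + tv j.succ = b j + tw j.castSucc := fun j => by
    have e1 : sw j = tw j.castSucc := by exact_mod_cast (g3 j).symm.trans (h3 j.castSucc)
    have e2 : sv j = tv j.succ := by exact_mod_cast (g4 j).symm.trans (h4 j.succ)
    have := g5 j
    omega
  have hlast : tw (Fin.last k) = t := by
    have := h3 (Fin.last k)
    rw [S.last_eq, ht] at this
    exact_mod_cast this.symm
  have eTc : ∀ j, T.c j = (c j : ℕ∞) := h2
  have eTb : ∀ j, T.b j = (b j : ℕ∞) := g2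
  have eSc : ∀ j, S.c j = (c' j : ℕ∞) := h1
  have eSb : ∀ j, S.b j = (b' j : ℕ∞) := g1
  unfold Algz.DSystem.delta
  simp only [eTc, eTb, eSc, eSb, ← Nat.cast_sum, ← ENat.natCast_sub]
  rw [add_assoc, add_assoc]
  refine add_le_add_right ?_ _
  obtain ⟨i, -, hi⟩ := Finset.exists_mem_eq_sup (Finset.univ : Finset (Fin (k + 1))) Finset.univ_nonempty
    (fun i => (((∑ j ∈ Finset.univ.filter (fun j : Fin (k + 1) => i ≤ j), c j) -
      ∑ j ∈ Finset.univ.filter (fun j : Fin k => i.val ≤ j.val), b j : ℕ) : ℕ∞))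
  rw [hi]
  refine le_trans ?_ (add_le_add_left (Finset.le_sup (Finset.mem_univ i)) _)
  have := sum_shift c c' tv tw b b' h5 hb i
  have := td_le f e hfib (S.v i) (tv i) (h4 i)
  have := td_le f e hfib x t ht
  exact_mod_cast (show _ - _ + t ≤ _ - _ + e by omega)

end Groth.Agent.Algz48.FT
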