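import Groth.Prelude.Def_Algz
import Groth.Agent.CycLib.DimFun

/-!
The distance function `Algz.deltaZ` in the presence of a dimension function `δ`: the codimension of
`v` below `w` is `δ w - δ v`, and every system has value at least `δ y - δ (v 0)`.
-/

namespace Groth.Agent.Algz48

open AlgebraicGeometry CategoryTheory

universe u

variable {Y : Scheme.{u}} {δ : Y → ℤ}

theorem codimPt_le (hδ : Cyc.IsDimFun Y δ) (w v : Y) (h : w ⤳ v) :
    Algz.codimPt w v h ≤ ((δ w - δ v).toNat : ℕ∞) := by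
  refine Order.height_le fun p hp => ?_
  let f : Set.Ici (Specialization.toEquiv v) → Y := fun a => Specialization.ofEquiv a.1
  have hf : StrictMono f := fun a b hab => by
    obtain ⟨h1, h2⟩ := lt_iff_le_not_ge.1 hab
    exact lt_iff_le_not_ge.2 ⟨Specialization.ofEquiv_specializes_ofEquiv.mpr h1,
      fun h3 => h2 (Specialization.ofEquiv_specializes_ofEquiv.mp h3)⟩
  have h1 := CycLib.length_le hδ (p.map f hf)
  rw [LTSeries.map_length, LTSeries.head_map, LTSeries.last_map, hp] at h1
  have h2 : δ v ≤ δ (f p.head) :=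
    CycLib.le_of_specializes hδ (Specialization.ofEquiv_specializes_ofEquiv.mpr p.head.2)
  have h3 : f ⟨Specialization.toEquiv w, Specialization.toEquiv_le_toEquiv.mpr h⟩ = w := rfl
  rw [h3] at h1
  exact_mod_cast (show p.length ≤ (δ w - δ v).toNat by omega)

theorem le_codimPt (hδ : Cyc.IsDimFun Y δ) (w : Y) : ∀ (n : ℕ) (v : Y) (h : w ⤳ v),
    δ w = δ v + n → (n : ℕ∞) ≤ Algz.codimPt w v h := by
  intro n
  induction n with
  | zero => simp
  | succ n ih =>
    intro v h hd
    classical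
    have hex : ∃ k : ℕ, ∃ z, w ⤳ z ∧ z ⤳ v ∧ z ≠ v ∧ δ z = δ v + k :=
      ⟨n + 1, w, specializes_rfl, h, fun he => by rw [he] at hd; omega, hd⟩
    obtain ⟨z, hwz, hz, hzne, hzd⟩ := Nat.find_spec hex
    have himm : δ z = δ v + 1 := (hδ z v hz hzne).2 fun t hzt htv => by
      by_contra ht
      rw [not_or] at ht
      obtain ⟨ht1, ht2⟩ := ht
      have h3 := (hδ z t hzt fun he => ht1 he.symm).1
      have h4 := (hδ t v htv ht2).1
      exact Nat.find_min hex (m := (δ t - δ v).toNat) (by omega)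
        ⟨t, hwz.trans hzt, htv, ht2, by omega⟩
    obtain ⟨p, hp, hpl⟩ := Order.exists_series_of_le_height _ (ih z hwz (by push_cast at hd; omega))
    have hvz : Specialization.toEquiv v < Specialization.toEquiv z :=
      lt_iff_le_not_ge.2 ⟨Specialization.toEquiv_le_toEquiv.mpr hz,
        fun h' => hzne ((Specialization.toEquiv_le_toEquiv.mp h').antisymm hz).symm.eq⟩
    let g : Set.Ici (Specialization.toEquiv z) → Set.Ici (Specialization.toEquiv v) :=
      fun a => ⟨a.1, hvz.le.trans a.2⟩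
    have hg : StrictMono g := fun a b hab => hab
    let q := (p.map g hg).cons ⟨Specialization.toEquiv v, Set.mem_Ici.2 le_rfl⟩ (lt_of_lt_of_le
      (show (⟨Specialization.toEquiv v, Set.mem_Ici.2 le_rfl⟩ : Set.Ici (Specialization.toEquiv v)) <
        ⟨Specialization.toEquiv z, hvz.le⟩ from hvz) (by rw [LTSeries.head_map]; exact p.head.2))
    have hq : q.last ≤ (⟨Specialization.toEquiv w, Specialization.toEquiv_le_toEquiv.mpr h⟩ :
        Set.Ici (Specialization.toEquiv v)) := by
      simp only [q, RelSeries.last_cons, LTSeries.last_map, hp]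
      exact le_rfl
    have := Order.length_le_height hq
    simp only [q, RelSeries.cons_length, LTSeries.map_length, hpl] at this
    exact this

theorem codimPt_eq (hδ : Cyc.IsDimFun Y δ) (w v : Y) (h : w ⤳ v) :
    Algz.codimPt w v h = ((δ w - δ v).toNat : ℕ∞) :=
  le_antisymm (codimPt_le hδ w v h)
    (le_codimPt hδ w _ v h (by have := CycLib.le_of_specializes hδ h; omega))

theorem toNat_sub_le_delta (hδ : Cyc.IsDimFun Y δ) {Z : Set Y} {y : Y} {k : ℕ}
    (S : Algz.DSystem Z y k) : ((δ y - δ (S.v 0)).toNat : ℕ∞) ≤ S.delta := by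
  unfold Algz.DSystem.delta
  refine le_trans ?_ (add_le_add_right (Finset.le_sup (Finset.mem_univ (0 : Fin (k + 1)))) _)
  have hb : ∀ j : Fin k, S.b j = (((δ (S.w j.castSucc) - δ (S.v j.succ)).toNat : ℕ) : ℕ∞) :=
    fun j => codimPt_eq hδ _ _ _
  have hc : ∀ j, S.c j = (((δ (S.w j) - δ (S.v j)).toNat : ℕ) : ℕ∞) :=
    fun j => codimPt_eq hδ _ _ _
  have hF : Finset.univ.filter (fun j : Fin (k + 1) => 0 ≤ j) = Finset.univ := by
    ext j; simp
  have hG : Finset.univ.filter (fun j : Fin k => (0 : Fin (k + 1)).val ≤ j.val) = Finset.univ := by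
    ext j; simp
  rw [hF, hG]
  simp only [hb, hc, ← Nat.cast_sum, ← ENat.natCast_sub, ← Nat.cast_add, Nat.cast_le]
  have e1 : ((∑ j, (δ (S.w j) - δ (S.v j)).toNat : ℕ) : ℤ) = ∑ j, δ (S.w j) - ∑ j, δ (S.v j) := by
    push_cast
    rw [← Finset.sum_sub_distrib]
    exact Finset.sum_congr rfl fun j _ => Int.toNat_of_nonneg
      (sub_nonneg.2 (CycLib.le_of_specializes hδ (S.spec j)))
  have e2 : ((∑ j : Fin k, (δ (S.w j.castSucc) - δ (S.v j.succ)).toNat : ℕ) : ℤ) =
      ∑ j : Fin k, δ (S.w j.castSucc) - ∑ j : Fin k, δ (S.v j.succ) := by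
    push_cast
    rw [← Finset.sum_sub_distrib]
    exact Finset.sum_congr rfl fun j _ => Int.toNat_of_nonneg
      (sub_nonneg.2 (CycLib.le_of_specializes hδ (S.spec_succ j)))
  have hw := Fin.sum_univ_castSucc fun j => δ (S.w j)
  have hv := Fin.sum_univ_succ fun j => δ (S.v j)
  rw [S.last_eq] at hw
  omega

end Groth.Agent.Algz48
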